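import Cfsg.Agent.Lib.FiniteForms.WittBasis
import Cfsg.Agent.Lib.FiniteForms.Arf
import Mathlib.Analysis.Complex.Basic
import Mathlib.Algebra.BigOperators.Fin

/-!
The module of even subsets of a set of size `n + 1` modulo complementation, with its quadratic form
`half the size, mod 2` when `4 ∣ n + 1`.
-/

set_option autoImplicit false

namespace CfsgLib.SymEvenModule

open Matrix CfsgLib.FiniteForms QuadraticMap

variable (n : ℕ)

local notation "F₂" => ZMod 2

/-- Representatives: even functions vanishing at `0`. -/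
def Vsub : Submodule F₂ (Fin (n + 1) → F₂) where
  carrier := {f | f 0 = 0 ∧ ∑ j, f j = 0}
  zero_mem' := ⟨rfl, by simp⟩
  add_mem' := fun {f g} hf hg => ⟨by simp [hf.1, hg.1], by simp [Finset.sum_add_distrib, hf.2, hg.2]⟩
  smul_mem' := fun c {f} hf => ⟨by simp [hf.1], by simp [← Finset.mul_sum, hf.2]⟩

variable {n}

/-- The weight. -/
def wt (f : Fin (n + 1) → F₂) : ℕ := ∑ j, (f j).val

theorem wt_cast (f : Fin (n + 1) → F₂) : (wt f : F₂) = ∑ j, f j := by
  rw [wt, Nat.cast_sum]
  exact Finset.sum_congr rfl fun j _ => ZMod.natCast_zmod_val (f j)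

theorem wt_add (f g : Fin (n + 1) → F₂) : wt (f + g) + 2 * wt (f * g) = wt f + wt g := by
  simp only [wt, Finset.mul_sum, ← Finset.sum_add_distrib, Pi.add_apply, Pi.mul_apply]
  refine Finset.sum_congr rfl fun j _ => ?_
  generalize f j = a
  generalize g j = b
  revert a b
  decide

theorem wt_even {f : Fin (n + 1) → F₂} (hf : f ∈ Vsub n) : 2 ∣ wt f := by
  rw [← ZMod.natCast_eq_zero_iff, wt_cast]
  exact hf.2

theorem q_add {f g : Fin (n + 1) → F₂} (hf : f ∈ Vsub n) (hg : g ∈ Vsub n) :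
    (((wt (f + g) / 2 : ℕ) : F₂)) = ((wt f / 2 : ℕ) : F₂) + ((wt g / 2 : ℕ) : F₂) + ∑ j, f j * g j := by
  have h := wt_add f g
  obtain ⟨a, ha⟩ := wt_even hf
  obtain ⟨b, hb⟩ := wt_even hg
  obtain ⟨c, hc⟩ := wt_even ((Vsub n).add_mem hf hg)
  have e : ∑ j, f j * g j = (wt (f * g) : F₂) := (wt_cast (f * g)).symm
  rw [ha, hb, hc, e, Nat.mul_div_cancel_left _ two_pos, Nat.mul_div_cancel_left _ two_pos,
    Nat.mul_div_cancel_left _ two_pos]
  have h2 : c + wt (f * g) = a + b := by omega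
  have h3 := congrArg (fun x : ℕ => (x : F₂)) h2
  push_cast at h3
  rw [← h3, add_assoc, CharTwo.add_self_eq_zero, add_zero]

/-- The quadratic form. -/
def Q (n : ℕ) : QuadraticForm F₂ (Vsub n) :=
  QuadraticMap.ofPolar (fun f => ((wt (f : Fin (n + 1) → F₂) / 2 : ℕ) : F₂))
    (fun c f => by
      rcases (show c = 0 ∨ c = 1 by revert c; decide) with rfl | rfl
      · simp [wt]
      · simp)
    (fun f f' g => by
      simp only [QuadraticMap.polar, Submodule.coe_add]
      rw [q_add ((Vsub n).add_mem f.2 f'.2) g.2, q_add f.2 g.2, q_add f'.2 g.2]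
      simp only [Pi.add_apply, add_mul, Finset.sum_add_distrib]
      abel)
    (fun c f g => by
      rcases (show c = 0 ∨ c = 1 by revert c; decide) with rfl | rfl
      · simp [QuadraticMap.polar, wt]
      · simp)

theorem Q_apply (f : Vsub n) : Q n f = ((wt (f : Fin (n + 1) → F₂) / 2 : ℕ) : F₂) := rfl

theorem polar_Q (f g : Vsub n) : polar (Q n) f g = ∑ j, (f : Fin (n + 1) → F₂) j * (g : Fin (n + 1) → F₂) j := by
  rw [QuadraticMap.polar, Q_apply, Q_apply, Q_apply, Submodule.coe_add, q_add f.2 g.2]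
  abel

/-- The indicator of a point. -/
def pt (a : Fin (n + 1)) : Fin (n + 1) → F₂ := Pi.single a 1

theorem pair_mem {a b : Fin (n + 1)} (ha : a ≠ 0) (hb : b ≠ 0) : pt a + pt b ∈ Vsub n :=
  ⟨by simp [pt, Pi.single_apply, Ne.symm ha, Ne.symm hb],
   by simp [pt, Finset.sum_add_distrib]; rfl⟩

theorem polarNondeg (hn : Odd n) : PolarNondeg (Q n) := by
  intro f hf
  have key : ∀ a b : Fin (n + 1), a ≠ 0 → b ≠ 0 → f.1 a = f.1 b := by
    intro a b ha hb
    have := hf ⟨_, pair_mem ha hb⟩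
    rw [polar_Q] at this
    simp only [pt, Pi.add_apply, mul_add, Finset.sum_add_distrib, Pi.single_apply, mul_ite, mul_one, mul_zero,
      Finset.sum_ite_eq', Finset.mem_univ, if_true] at this
    exact CharTwo.add_eq_zero.mp this
  obtain ⟨h0, hs⟩ := f.2
  apply Subtype.ext
  funext j
  rcases eq_or_ne j 0 with rfl | hj
  · exact h0
  show f.1 j = 0
  have hall : ∀ i : Fin n, f.1 i.succ = f.1 j := fun i => key _ _ (Fin.succ_ne_zero i) hj
  rw [Fin.sum_univ_succ, h0, zero_add, Finset.sum_congr rfl (fun i _ => hall i), Finset.sum_const,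
    Finset.card_univ, Fintype.card_fin, nsmul_eq_mul] at hs
  have hn1 : (n : F₂) = 1 := by
    rw [← ZMod.natCast_mod, Nat.odd_iff.mp hn]; rfl
  rwa [hn1, one_mul] at hs

theorem finrank_eq (hn : 1 ≤ n) : Module.finrank F₂ (Vsub n) + 1 = n := by
  let L : (Fin n → F₂) →ₗ[F₂] F₂ := ∑ j, LinearMap.proj j
  have hL : ∀ g, L g = ∑ j, g j := fun g => by simp [L]
  let e : Vsub n ≃ₗ[F₂] LinearMap.ker L :=
    { toFun := fun f => ⟨fun i => f.1 i.succ, by
        obtain ⟨h0, hs⟩ := f.2
        rw [Fin.sum_univ_succ, h0, zero_add] at hs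
        rw [LinearMap.mem_ker, hL]
        exact hs⟩
      invFun := fun g => ⟨Fin.cons 0 g.1, by
        refine ⟨by simp, ?_⟩
        have := g.2
        rw [LinearMap.mem_ker, hL] at this
        rw [Fin.sum_univ_succ]
        simpa using this⟩
      map_add' := fun f g => rfl
      map_smul' := fun c f => rfl
      left_inv := fun f => Subtype.ext (funext fun i => by
        refine Fin.cases ?_ ?_ i <;> simp [f.2.1])
      right_inv := fun g => Subtype.ext (funext fun i => by simp) }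
  rw [e.finrank_eq]
  have h := L.finrank_range_add_finrank_ker
  have hr : LinearMap.range L = ⊤ := LinearMap.range_eq_top.mpr fun c =>
    ⟨Pi.single ⟨0, by omega⟩ c, by rw [hL]; simp⟩
  rw [hr, finrank_top, Module.finrank_self, Module.finrank_fin_fun] at h
  omega

theorem eps_val (j : ℕ) : ((Arf.eps ((j : ℕ) : F₂) : ℤ) : ℝ) = (Complex.I ^ (2 * j)).re := by
  rw [pow_mul, Complex.I_sq]
  rcases Nat.even_or_odd j with h | h
  · rw [h.neg_one_pow, show ((j : F₂)) = 0 from (ZMod.natCast_eq_zero_iff_even).mpr h]; simp [Arf.eps]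
  · rw [h.neg_one_pow, show ((j : F₂)) = 1 from (ZMod.natCast_eq_one_iff_odd).mpr h]; simp [Arf.eps]

/-- The signed count of the values. -/
theorem gauss_eq [Fintype (Vsub n)] (k : ℕ) (hn : n = 4 * k + 3) :
    (∑ f : Vsub n, Arf.eps (Q n f)) = -2 * (-4 : ℤ) ^ k := by
  classical
  let G : (Fin n → F₂) → ℂ := fun g => ∏ i, Complex.I ^ (g i).val
  have hsum : ∑ g, G g = (1 + Complex.I) ^ n := by
    show ∑ g : Fin n → F₂, ∏ i, Complex.I ^ (g i).val = _
    rw [← Fintype.prod_sum (fun _ (x : F₂) => Complex.I ^ x.val), Finset.prod_const, Finset.card_univ,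
      Fintype.card_fin]
    congr 1
    rw [show (Finset.univ : Finset F₂) = {0, 1} by decide, Finset.sum_pair (by decide)]
    simp [ZMod.val_one]
  have hpow : (1 + Complex.I) ^ n = ((-4 : ℂ) ^ k) * (-2 + 2 * Complex.I) := by
    rw [hn, pow_add, pow_mul]
    have h4 : (1 + Complex.I) ^ 4 = -4 := by
      linear_combination (Complex.I ^ 2 + 4 * Complex.I + 5) * Complex.I_sq
    have h3 : (1 + Complex.I) ^ 3 = -2 + 2 * Complex.I := by
      linear_combination (Complex.I + 3) * Complex.I_sq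
    rw [h4, h3]
  have hG : ∀ g : Fin n → F₂, G g = Complex.I ^ wt (Fin.cons 0 g : Fin (n + 1) → F₂) := fun g => by
    show ∏ i, Complex.I ^ (g i).val = _
    rw [Finset.prod_pow_eq_pow_sum, wt, Fin.sum_univ_succ]
    simp
  have hre : ∀ f : Fin (n + 1) → F₂, f 0 = 0 → f ∉ Vsub n → (Complex.I ^ wt f).re = 0 := by
    intro f h0 hf
    obtain ⟨j, hj⟩ : Odd (wt f) := by
      rw [← Nat.not_even_iff_odd, ← ZMod.natCast_eq_zero_iff_even, wt_cast]
      exact fun h => hf ⟨h0, h⟩
    rw [hj, pow_succ, pow_mul, Complex.I_sq]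
    rcases neg_one_pow_eq_or ℂ j with h | h <;> simp [h]
  have key : ((∑ f : Vsub n, Arf.eps (Q n f) : ℤ) : ℝ) = (∑ g, G g).re := by
    rw [Complex.re_sum, Int.cast_sum]
    refine Finset.sum_of_injOn (fun f i => f.1 i.succ) ?_ (by simp) ?_ ?_
    · intro f _ f' _ h
      refine Subtype.ext (funext fun i => ?_)
      refine Fin.cases ?_ (fun i => ?_) i
      · rw [f.2.1, f'.2.1]
      · exact congrFun h i
    · intro g _ hg
      rw [hG]
      refine hre _ (Fin.cons_zero _ _) fun hmem => hg ⟨⟨_, hmem⟩, by simp, ?_⟩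
      funext i; simp
    · intro f _
      rw [hG, show (Fin.cons 0 fun i => f.1 i.succ) = f.1 by
        funext i; refine Fin.cases ?_ ?_ i <;> simp [f.2.1]]
      obtain ⟨j, hj⟩ := wt_even f.2
      rw [Q_apply, hj, Nat.mul_div_cancel_left _ two_pos, eps_val]
  rw [hsum, hpow] at key
  have : ((-4 : ℂ) ^ k) = (((-4 : ℤ) ^ k : ℤ) : ℂ) := by push_cast; rfl
  rw [this, Complex.mul_re, Complex.intCast_re, Complex.intCast_im] at key
  simp at key
  have h' : ((∑ f : Vsub n, Arf.eps (Q n f) : ℤ) : ℝ) = ((-2 * (-4 : ℤ) ^ k : ℤ) : ℝ) := by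
    push_cast
    rw [key]; ring
  exact_mod_cast h'

/-! ### The action of the symmetric group -/

theorem wt_comp (f : Fin (n + 1) → F₂) (σ : Equiv.Perm (Fin (n + 1))) : wt (fun i => f (σ i)) = wt f :=
  Equiv.sum_comp σ (fun i => (f i).val)

theorem wt_add_one (f : Fin (n + 1) → F₂) : wt (f + 1) + wt f = n + 1 := by
  simp only [wt, ← Finset.sum_add_distrib, Pi.add_apply, Pi.one_apply]
  rw [Finset.sum_congr rfl (fun j _ => show (f j + 1).val + (f j).val = 1 by
    generalize f j = a; revert a; decide)]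
  simp

/-- Permute and renormalise at `0`. -/
def actFun (σ : Equiv.Perm (Fin (n + 1))) (f : Fin (n + 1) → F₂) : Fin (n + 1) → F₂ :=
  fun i => f (σ.symm i) + f (σ.symm 0)

theorem actFun_mem (hn : Odd n) (σ : Equiv.Perm (Fin (n + 1))) {f : Fin (n + 1) → F₂} (hf : f ∈ Vsub n) :
    actFun σ f ∈ Vsub n := by
  refine ⟨CharTwo.add_self_eq_zero _, ?_⟩
  have h : ((n + 1 : ℕ) : F₂) = 0 := (ZMod.natCast_eq_zero_iff_even).mpr hn.add_one
  simp only [actFun, Finset.sum_add_distrib, Finset.sum_const, Finset.card_univ, Fintype.card_fin, nsmul_eq_mul, h,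
    zero_mul, add_zero]
  rw [Equiv.sum_comp σ.symm f]
  exact hf.2

theorem act_mul (σ τ : Equiv.Perm (Fin (n + 1))) (f : Fin (n + 1) → F₂) :
    actFun (σ * τ) f = actFun σ (actFun τ f) := by
  funext i
  show f ((σ * τ).symm i) + f ((σ * τ).symm 0) = _
  simp only [actFun]
  show f (τ.symm (σ.symm i)) + f (τ.symm (σ.symm 0)) = _
  linear_combination (-f (τ.symm 0)) * (CharTwo.two_eq_zero (R := F₂))

theorem wt_act (k : ℕ) (hn : n = 4 * k + 3) (σ : Equiv.Perm (Fin (n + 1))) {f : Fin (n + 1) → F₂} (hf : f ∈ Vsub n) :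
    (((wt (actFun σ f) / 2 : ℕ) : F₂)) = ((wt f / 2 : ℕ) : F₂) := by
  have e : wt (fun i => f (σ.symm i)) = wt f := wt_comp f σ.symm
  rcases (show f (σ.symm 0) = 0 ∨ f (σ.symm 0) = 1 by generalize f (σ.symm 0) = a; revert a; decide) with h | h
  · rw [show actFun σ f = fun i => f (σ.symm i) by funext i; simp [actFun, h], e]
  · rw [show actFun σ f = (fun i => f (σ.symm i)) + 1 by funext i; simp [actFun, h]]
    have h1 := wt_add_one (fun i => f (σ.symm i))
    rw [e] at h1
    obtain ⟨a, ha⟩ := wt_even hf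
    rw [ha] at h1 ⊢
    rw [show wt ((fun i => f (σ.symm i)) + 1) = 2 * (2 * k + 2 - a) by omega, Nat.mul_div_cancel_left _ two_pos,
      Nat.mul_div_cancel_left _ two_pos, Nat.cast_sub (by omega), CharTwo.sub_eq_add]
    rw [show ((2 * k + 2 : ℕ) : F₂) = 0 from (ZMod.natCast_eq_zero_iff_even).mpr ⟨k + 1, by ring⟩, zero_add]

/-- The action on the module. -/
def act (hn : Odd n) : Equiv.Perm (Fin (n + 1)) →* Module.End F₂ (Vsub n) where
  toFun σ :=
    { toFun := fun f => ⟨actFun σ f.1, actFun_mem hn σ f.2⟩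
      map_add' := fun f g => Subtype.ext (funext fun i => by simp [actFun]; abel)
      map_smul' := fun c f => Subtype.ext (funext fun i => by simp [actFun, mul_add]) }
  map_one' := LinearMap.ext fun f => Subtype.ext (funext fun i => by
    show f.1 ((1 : Equiv.Perm (Fin (n + 1))).symm i) + f.1 ((1 : Equiv.Perm (Fin (n + 1))).symm 0) = f.1 i
    rw [Equiv.Perm.one_def, Equiv.refl_symm, Equiv.refl_apply, Equiv.refl_apply, f.2.1, add_zero])
  map_mul' := fun σ τ => LinearMap.ext fun f => Subtype.ext (act_mul σ τ f.1)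

theorem act_injective (hn : Odd n) (h8 : 7 ≤ n) : Function.Injective (act hn) := by
  rw [← MonoidHom.ker_eq_bot_iff, Subgroup.eq_bot_iff_forall]
  intro σ hσ
  have hfix : ∀ f : Vsub n, actFun σ f.1 = f.1 := fun f =>
    congrArg Subtype.val (LinearMap.congr_fun (MonoidHom.mem_ker.mp hσ) f)
  have hwt : ∀ a b : Fin (n + 1), a ≠ b → wt (pt a + pt b) = 2 := fun a b hab => by
    have := wt_add (pt a) (pt b)
    have e : ∀ c : Fin (n + 1), wt (pt c) = 1 := fun c => by
      rw [wt, Finset.sum_eq_single c (fun j _ hj => by simp [pt, hj]) (by simp)]; simp [pt, ZMod.val_one]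
    have e2 : pt a * pt b = 0 := by
      funext j; simp only [pt, Pi.mul_apply, Pi.single_apply, Pi.zero_apply]
      split_ifs with u v <;> simp_all
    rw [e, e, e2] at this
    simpa [wt] using this
  have hset : ∀ a b : Fin (n + 1), a ≠ 0 → b ≠ 0 → a ≠ b → σ.symm a = a ∨ σ.symm a = b := by
    intro a b ha hb hab
    have h := hfix ⟨_, pair_mem ha hb⟩
    set f := pt a + pt b with hf
    have hc : f (σ.symm 0) = 0 := by
      by_contra hne
      have h1 : f (σ.symm 0) = 1 := by revert hne; generalize f (σ.symm 0) = x; revert x; decide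
      have h2 : (fun i => f (σ.symm i)) + 1 = f := by
        funext i
        have := congrFun h i
        change f (σ.symm i) + f (σ.symm 0) = f i at this
        rw [h1] at this
        exact this
      have h3 := wt_add_one (fun i => f (σ.symm i))
      rw [h2, wt_comp f σ.symm, hwt a b hab] at h3
      omega
    have h2 := congrFun h a
    change f (σ.symm a) + f (σ.symm 0) = f a at h2
    rw [hc, add_zero] at h2
    simp only [hf, pt, Pi.add_apply, Pi.single_apply, if_neg hab] at h2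
    by_contra hne
    push Not at hne
    rw [if_neg hne.1, if_neg hne.2] at h2
    simp at h2
  have hfixed : ∀ a : Fin (n + 1), a ≠ 0 → σ.symm a = a := by
    intro a ha
    obtain ⟨b, hb, hab, c, hc, hac, hbc⟩ : ∃ b, b ≠ 0 ∧ a ≠ b ∧ ∃ c, c ≠ 0 ∧ a ≠ c ∧ b ≠ c := by
      rcases eq_or_ne a ⟨1, by omega⟩ with rfl | h1
      · exact ⟨⟨2, by omega⟩, by simp [Fin.ext_iff], by simp [Fin.ext_iff], ⟨3, by omega⟩, by simp [Fin.ext_iff],
          by simp [Fin.ext_iff], by simp [Fin.ext_iff]⟩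
      rcases eq_or_ne a ⟨2, by omega⟩ with rfl | h2
      · exact ⟨⟨1, by omega⟩, by simp [Fin.ext_iff], h1, ⟨3, by omega⟩, by simp [Fin.ext_iff],
          by simp [Fin.ext_iff], by simp [Fin.ext_iff]⟩
      exact ⟨⟨1, by omega⟩, by simp [Fin.ext_iff], h1, ⟨2, by omega⟩, by simp [Fin.ext_iff], h2,
        by simp [Fin.ext_iff]⟩
    rcases hset a b ha hb hab with h | h
    · exact h
    rcases hset a c ha hc hac with h' | h'
    · exact h'
    · exact absurd (h.symm.trans h') hbc
  apply Equiv.ext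
  intro i
  have : σ.symm i = i := by
    rcases eq_or_ne i 0 with rfl | hi
    · by_contra hne
      exact hne (σ.symm.injective (hfixed _ hne))
    · exact hfixed i hi
  calc σ i = σ (σ.symm i) := by rw [this]
    _ = i := σ.apply_symm_apply i

/-- Transport the action. -/
theorem exists_hom (k : ℕ) (hk : 1 ≤ k) {ι : Type} [Fintype ι] [DecidableEq ι] (R : (ι → F₂) → F₂)
    (g : Vsub (4 * k + 3) ≃ₗ[F₂] (ι → F₂)) (hg : ∀ v, Q _ v = R (g v)) :
    ∃ φ : Equiv.Perm (Fin (4 * k + 4)) →* ↥(Cfsg.isometryGroup F₂ R), Function.Injective φ := by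
  have hn : Odd (4 * k + 3) := ⟨2 * k + 1, by ring⟩
  let ψ : Equiv.Perm (Fin (4 * k + 3 + 1)) →* Matrix ι ι F₂ :=
    { toFun := fun σ => LinearMap.toMatrix' (g.toLinearMap ∘ₗ (act hn σ : Vsub (4 * k + 3) →ₗ[F₂] Vsub (4 * k + 3)) ∘ₗ g.symm.toLinearMap)
      map_one' := by
        rw [map_one]
        convert LinearMap.toMatrix'_id using 2
        exact LinearMap.ext fun v => g.apply_symm_apply v
      map_mul' := fun σ τ => by
        rw [map_mul, ← LinearMap.toMatrix'_comp]
        congr 1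
        refine LinearMap.ext fun v => ?_
        simp }
  have hψ : ∀ σ v, ψ σ *ᵥ g v = g (act hn σ v) := fun σ v => by
    show LinearMap.toMatrix' _ *ᵥ g v = _
    rw [LinearMap.toMatrix'_mulVec]
    simp
  have hmem : ∀ σ, ψ.toHomUnits σ ∈ Cfsg.isometryGroup F₂ R := by
    intro σ u _
    show R (ψ σ *ᵥ u) = R u
    obtain ⟨v, rfl⟩ := g.surjective u
    rw [hψ, ← hg, ← hg, Q_apply, Q_apply]
    exact wt_act k rfl σ v.2
  refine ⟨(ψ.toHomUnits.codRestrict _ hmem), fun σ τ h => ?_⟩
  refine act_injective hn (by omega) (LinearMap.ext fun v => g.injective ?_)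
  rw [← hψ, ← hψ]
  exact congrArg (fun M : Matrix ι ι F₂ => M *ᵥ g v)
    (congrArg (fun x : ↥(Cfsg.isometryGroup F₂ R) => x.1.1) h)

end CfsgLib.SymEvenModule
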